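import Groth.Agent.LC.GorLoc
import Groth.Agent.Alg6.LocLoc
import Groth.Agent.ParaFX.Ufd
import Groth.Agent.SchTop.Closed
import Mathlib.RingTheory.Localization.LocalizationLocalization

/-!
# Cohen–Macaulayness of stalks: generalizations and small normal rings
-/

set_option autoImplicit false

universe u

open CategoryTheory AlgebraicGeometry IsLocalRing

namespace Groth.Agent.CMClosed

theorem of_ringEquiv {R S : Type u} [CommRing R] [CommRing S] (e : R ≃+* S)
    [hR : LocCoh.IsCohenMacaulayLocalRing R] : LocCoh.IsCohenMacaulayLocalRing S := by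
  haveI : IsNoetherianRing S := isNoetherianRing_of_ringEquiv R e
  haveI : IsLocalRing S := e.isLocalRing
  refine { supportDim_eq_depth := ?_ }
  rw [Module.supportDim_self_eq_ringKrullDim,
    ← Alg6.depth_eq_of_semilinear e.toRingHom e.surjective e.toAddEquiv (fun r z => map_mul e r z),
    ← ringKrullDim_eq_of_ringEquiv e, ← Module.supportDim_self_eq_ringKrullDim]
  exact hR.supportDim_eq_depth

theorem atPrime {R : Type u} [CommRing R] [LocCoh.IsCohenMacaulayLocalRing R] (p : Ideal R) [p.IsPrime] :
    LocCoh.IsCohenMacaulayLocalRing (Localization.AtPrime p) := by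
  haveI : IsNoetherianRing (Localization.AtPrime p) :=
    IsLocalization.isNoetherianRing p.primeCompl _ inferInstance
  refine { supportDim_eq_depth := ?_ }
  rw [Module.supportDim_self_eq_ringKrullDim,
    IsLocalization.AtPrime.ringKrullDim_eq_height p (Localization.AtPrime p),
    ← LC.depth_localized_self p]

theorem atPrime_congr {R : Type u} [CommRing R] {p q : Ideal R} [p.IsPrime] [q.IsPrime] (h : p = q)
    [LocCoh.IsCohenMacaulayLocalRing (Localization.AtPrime p)] :
    LocCoh.IsCohenMacaulayLocalRing (Localization.AtPrime q) := by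
  subst h
  assumption

/-- Generalizations of Cohen–Macaulay points are Cohen–Macaulay. -/
theorem stalk_of_specializes {X : Scheme.{u}} {x z : X} (h : x ⤳ z)
    [LocCoh.IsCohenMacaulayLocalRing (X.presheaf.stalk z)] :
    LocCoh.IsCohenMacaulayLocalRing (X.presheaf.stalk x) := by
  obtain ⟨_, ⟨U, hU, rfl⟩, hzU, -⟩ :=
    X.isBasis_affineOpens.exists_subset_of_mem_open (Set.mem_univ z) isOpen_univ
  have hxU : x ∈ U := h.mem_open U.isOpen hzU
  obtain ⟨ez⟩ := SchTop.nonempty_stalk_equiv hU hzU
  obtain ⟨ex⟩ := SchTop.nonempty_stalk_equiv hU hxU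
  let q := (hU.primeIdealOf ⟨x, hxU⟩).asIdeal
  let M := (hU.primeIdealOf ⟨z, hzU⟩).asIdeal.primeCompl
  have hdis : Disjoint (M : Set Γ(X, U)) (q : Set Γ(X, U)) :=
    Set.disjoint_left.2 fun a ha hb => ha (SchTop.primeIdealOf_le hU hxU hzU h hb)
  haveI hP : (q.map (algebraMap Γ(X, U) (Localization M))).IsPrime :=
    IsLocalization.isPrime_of_isPrime_disjoint M _ q inferInstance hdis
  have hcom : (q.map (algebraMap Γ(X, U) (Localization M))).comap (algebraMap Γ(X, U) (Localization M)) = q :=
    IsLocalization.comap_map_of_isPrime_disjoint M _ inferInstance hdis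
  haveI : LocCoh.IsCohenMacaulayLocalRing (Localization M) := of_ringEquiv ez
  haveI := atPrime (q.map (algebraMap Γ(X, U) (Localization M)))
  have e1 := (IsLocalization.localizationLocalizationAtPrimeIsoLocalization M
    (q.map (algebraMap Γ(X, U) (Localization M)))).toRingEquiv.symm
  haveI := of_ringEquiv e1
  haveI := atPrime_congr hcom
  exact of_ringEquiv ex.symm

/-- Normal Noetherian local domains of dimension at most two are Cohen–Macaulay. -/
theorem of_normal_dim_le_two (A : Type u) [CommRing A] [IsDomain A] [IsNoetherianRing A]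
    [IsLocalRing A] [IsIntegrallyClosed A] (hd : ringKrullDim A ≤ 2) :
    LocCoh.IsCohenMacaulayLocalRing A := by
  refine { supportDim_eq_depth := le_antisymm ?_ (LC.depth_le_supportDim A) }
  rw [Module.supportDim_self_eq_ringKrullDim]
  by_cases h2 : (2 : WithBot ℕ∞) ≤ ringKrullDim A
  · exact hd.trans (WithBot.coe_le_coe.2 (ParaFX.two_le_depth_of_normal A h2))
  · by_cases hf : IsField A
    · rw [ringKrullDim_eq_zero_of_isField hf]
      exact WithBot.coe_le_coe.2 bot_le
    · have h1 : (1 : ℕ∞) ≤ LocCoh.depth A A := Alg6.one_le_depth_iff.2 fun hass => by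
        obtain ⟨-, z, hz⟩ := Alg6.mem_ass_iff.mp hass
        obtain ⟨b, hb, hb0⟩ := Submodule.exists_mem_ne_zero_of_ne_bot
          (fun hh => hf (isField_iff_maximalIdeal_eq.mpr hh))
        have h3 := (hz b).1 hb
        rw [smul_eq_mul] at h3
        have hz0 : z = 0 := (mul_eq_zero.1 h3).resolve_left hb0
        exact (maximalIdeal.isMaximal A).ne_top ((Ideal.eq_top_iff_one _).2 ((hz 1).2 (by simp [hz0])))
      refine le_trans ?_ (WithBot.coe_le_coe.2 h1)
      obtain ⟨d, hd'⟩ := WithBot.ne_bot_iff_exists.1 (ringKrullDim_ne_bot (R := A))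
      rw [← hd'] at h2 ⊢
      have h2' : d < 2 := WithBot.coe_lt_coe.1 (show (d : WithBot ℕ∞) < ((2 : ℕ∞) : WithBot ℕ∞) from not_le.1 h2)
      have h12 : (2 : ℕ∞) = 1 + 1 := one_add_one_eq_two.symm
      rw [h12] at h2'
      exact_mod_cast (ENat.lt_add_one_iff (by simp)).1 h2'

end Groth.Agent.CMClosed
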